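import Groth.Agent.PicUnionLib.Ring
import Groth.Agent.AmpleEmb.ComposeRel
import Groth.Agent.ParaFLib.Glue
import Groth.Agent.ParaFLib.Cocycle
import Groth.Agent.ParaFLib.Stalk
import Groth.Agent.ParaFLib.ExtendMain
import Groth.Agent.CubeLib.Sec

/-!
# Invertible modules on a union of two closed subschemes
-/

set_option autoImplicit false
set_option backward.isDefEq.respectTransparency false
set_option linter.style.haveILetI false

universe u

open CategoryTheory AlgebraicGeometry TopologicalSpace Opposite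
open Groth.Agent.ParaFLib Groth.Agent.PullbackMod

noncomputable section

namespace Groth.Agent.PicUnionLib

variable {X : Scheme.{u}} {I J : X.IdealSheafData}

theorem gen_inj' {P : Scheme.{u}} {M : P.Modules} {O : P.Opens} {e : Γ(M, O)} (he : Gen O e) {a b : Γ(P, O)}
    (h : a • e = b • e) : a = b := by
  apply (he O le_rfl).1
  have hr : M.presheaf.map (homOfLE (le_refl O)).op e = e := ConcreteCategory.congr_hom (M.presheaf.map_id _) e
  simpa only [hr] using h

theorem map_map' {P : Scheme.{u}} {a b c : P.Opens} (h₁ : b ≤ a) (h₂ : c ≤ b) (s : Γ(P, a)) :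
    P.presheaf.map (homOfLE h₂).op (P.presheaf.map (homOfLE h₁).op s)
      = P.presheaf.map (homOfLE (h₂.trans h₁)).op s := by
  rw [← ConcreteCategory.comp_apply, ← Functor.map_comp]
  rfl

theorem pullMap_trans {P Q : Scheme.{u}} (g : P ⟶ Q) (M : Q.Modules) {U V O : Q.Opens} (hU : O ≤ U) (hV : O ≤ V)
    {s : Γ(M, U)} {t : Γ(M, V)} {η : Γ(Q, O)}
    (h : M.presheaf.map (homOfLE hU).op s = η • M.presheaf.map (homOfLE hV).op t) :
    ((Scheme.Modules.pullback g).obj M).presheaf.map (homOfLE (g.preimage_mono hU)).op (pullMap g M le_rfl s) =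
      g.app O η • ((Scheme.Modules.pullback g).obj M).presheaf.map (homOfLE (g.preimage_mono hV)).op
        (pullMap g M le_rfl t) := by
  rw [pullMap_res g M le_rfl hU (g.preimage_mono hU) le_rfl s, h, pullMap_smul,
    pullMap_res g M le_rfl hV (g.preimage_mono hV) le_rfl t, Scheme.Hom.app_eq_appLE]

/-- The coefficients of a section in two frames with a given transition function. -/
theorem coef_trans {P : Scheme.{u}} {N : P.Modules} {U V O T : P.Opens} (hU : O ≤ U) (hV : O ≤ V)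
    (hUT : U ≤ T) (hVT : V ≤ T) {τ : Γ(N, T)} {s : Γ(N, U)} {t : Γ(N, V)} (ht : Gen V t) {a : Γ(P, U)} {b : Γ(P, V)}
    {η : Γ(P, O)}
    (ha : a • s = N.presheaf.map (homOfLE hUT).op τ) (hb : b • t = N.presheaf.map (homOfLE hVT).op τ)
    (h : N.presheaf.map (homOfLE hU).op s = η • N.presheaf.map (homOfLE hV).op t) :
    P.presheaf.map (homOfLE hU).op a * η = P.presheaf.map (homOfLE hV).op b := by
  apply gen_inj' (ht.res hV)
  rw [mul_smul, ← h, ← N.map_smul, ← N.map_smul, ha, hb]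
  exact (ParaFLib.res_res _ _ _).trans (ParaFLib.res_res _ _ _).symm

variable (hIJ : I ⊓ J = ⊥)

include hIJ in
/-- An invertible module which is trivial on both pieces is trivial, if every unit on `V(I ⊔ J)` extends to a
unit on `V(J)`. -/
theorem nonempty_iso_unit {M : X.Modules} (hM : PicF.IsInvertible M)
    {τY : Γ((Scheme.Modules.pullback I.subschemeι).obj M, I.subschemeι ⁻¹ᵁ ⊤)} (hτY : Gen _ τY)
    {τZ : Γ((Scheme.Modules.pullback J.subschemeι).obj M, J.subschemeι ⁻¹ᵁ ⊤)} (hτZ : Gen _ τZ)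
    (hext : ∀ u : Γ((I ⊔ J).subscheme, (I ⊔ J).subschemeι ⁻¹ᵁ ⊤), IsUnit u →
      ∃ v : Γ(J.subscheme, J.subschemeι ⁻¹ᵁ ⊤), IsUnit v ∧ toWZ I J ⊤ v = u) :
    Nonempty (M ≅ Coh.structureModule X) := by
  choose U s hxU hs using fun x => exists_gen_nhd hM x
  have hU : iSup U = ⊤ := eq_top_iff.2 fun x _ => Opens.mem_iSup.2 ⟨x, hxU x⟩
  choose η hη' hη using fun x y =>
    ((hs x).res (inf_le_left : U x ⊓ U y ≤ U x)).exists_unit ((hs y).res (inf_le_right : U x ⊓ U y ≤ U y))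
  let ιY := I.subschemeι
  let ιZ := J.subschemeι
  let ιW := (I ⊔ J).subschemeι
  choose a ha' ha using fun x =>
    (hτY.res (ιY.preimage_mono (le_top : U x ≤ ⊤))).exists_unit (AmpleEmb.gen_pullMap ιY hM (hs x))
  choose b hb' hb using fun x =>
    (hτZ.res (ιZ.preimage_mono (le_top : U x ≤ ⊤))).exists_unit (AmpleEmb.gen_pullMap ιZ hM (hs x))
  have hrelY : ∀ x y, I.subscheme.presheaf.map (homOfLE (ιY.preimage_mono (inf_le_left : U x ⊓ U y ≤ U x))).op (a x) *
      ιY.app _ (η x y) =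
      I.subscheme.presheaf.map (homOfLE (ιY.preimage_mono (inf_le_right : U x ⊓ U y ≤ U y))).op (a y) := fun x y =>
    coef_trans _ _ (ιY.preimage_mono le_top) (ιY.preimage_mono le_top) (AmpleEmb.gen_pullMap ιY hM (hs y))
      (ha x) (ha y) (pullMap_trans ιY M _ _ (hη x y).symm)
  have hrelZ : ∀ x y, J.subscheme.presheaf.map (homOfLE (ιZ.preimage_mono (inf_le_left : U x ⊓ U y ≤ U x))).op (b x) *
      ιZ.app _ (η x y) =
      J.subscheme.presheaf.map (homOfLE (ιZ.preimage_mono (inf_le_right : U x ⊓ U y ≤ U y))).op (b y) := fun x y =>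
    coef_trans _ _ (ιZ.preimage_mono le_top) (ιZ.preimage_mono le_top) (AmpleEmb.gen_pullMap ιZ hM (hs y))
      (hb x) (hb y) (pullMap_trans ιZ M _ _ (hη x y).symm)
  -- the comparison of the two frames on the intersection
  let w : ∀ x, Γ((I ⊔ J).subscheme, ιW ⁻¹ᵁ U x) := fun x =>
    toWY I J (U x) (a x) * ↑((hb' x).map (toWZ I J (U x))).unit⁻¹
  have hw : ∀ x, w x * toWZ I J (U x) (b x) = toWY I J (U x) (a x) := fun x => by
    simp only [w, mul_assoc]
    erw [IsUnit.val_inv_mul]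
    rw [mul_one]
  obtain ⟨u, hu, -⟩ := (I ⊔ J).subscheme.sheaf.existsUnique_gluing' (fun x => ιW ⁻¹ᵁ U x) (ιW ⁻¹ᵁ ⊤)
    (fun x => homOfLE (ιW.preimage_mono le_top))
    (by rw [← Scheme.Hom.preimage_iSup, hU]) w fun x y => by
      show (I ⊔ J).subscheme.presheaf.map (homOfLE (ιW.preimage_mono (inf_le_left : U x ⊓ U y ≤ U x))).op (w x) =
        (I ⊔ J).subscheme.presheaf.map (homOfLE (ιW.preimage_mono (inf_le_right : U x ⊓ U y ≤ U y))).op (w y)
      refine (((hb' y).map (toWZ I J (U y))).map _).mul_right_cancel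
        (Eq.trans ?_ ((congrArg _ (hw y)).trans rfl |>.symm.trans (map_mul _ _ _)))
      have hY := congrArg (toWY I J (U x ⊓ U y)) (hrelY x y)
      have hZ := congrArg (toWZ I J (U x ⊓ U y)) (hrelZ x y)
      rw [map_mul, toWY_app, toWY_res I J inf_le_left, toWY_res I J inf_le_right] at hY
      rw [map_mul, toWZ_app, toWZ_res I J inf_le_left, toWZ_res I J inf_le_right] at hZ
      rw [← hY, ← hZ, ← mul_assoc, ← map_mul, hw x]
  change ∀ x, (I ⊔ J).subscheme.presheaf.map (homOfLE (ιW.preimage_mono (le_top : U x ≤ ⊤))).op u = w x at hu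
  have huu : IsUnit u := by
    refine RingedSpace.isUnit_of_isUnit_germ _ _ u fun p hp => ?_
    have hp' : p ∈ ιW ⁻¹ᵁ U (ιW p) := hxU (ιW p)
    have h1 : IsUnit (w (ιW p)) := ((ha' _).map _).mul ⟨_, rfl⟩
    have h2 := h1.map ((I ⊔ J).subscheme.presheaf.germ _ p hp').hom
    rw [← hu] at h2
    erw [TopCat.Presheaf.germ_res_apply] at h2
    exact h2
  obtain ⟨v, hv', hv⟩ := hext u huu
  -- the new frames
  choose r hr' hrY hrZ using fun x => exists_unit_lift hIJ (U x) (ha' x)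
    (((hv'.map (J.subscheme.presheaf.map (homOfLE (ιZ.preimage_mono (le_top : U x ≤ ⊤))).op).hom).mul (hb' x)))
    (by
      rw [map_mul]
      erw [toWZ_res I J (le_top : U x ≤ ⊤)]
      rw [hv, hu x, hw x])
  refine nonempty_iso_of_bases hU (fun x => (hs x).smul (hr' x)) (fun x => gen_one (U x)) (fun _ _ => 1)
    (fun x y => ?_) fun x y => ?_
  · rw [one_smul, M.map_smul, M.map_smul, ← hη x y, ← mul_smul]
    congr 1
    refine app_injective hIJ _ ?_ ?_
    · rw [map_mul, app_res, app_res, hrY, hrY]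
      exact hrelY x y
    · rw [map_mul, app_res, app_res, hrZ, hrZ, map_mul, map_mul, mul_assoc]
      erw [map_map', map_map', hrelZ x y]
  · rw [one_smul]
    show X.presheaf.map _ (1 : Γ(X, U x)) = X.presheaf.map _ (1 : Γ(X, U y))
    rw [map_one, map_one]

theorem exists_gen_nhd_closed {P : Scheme.{u}} (f : P ⟶ X) [IsClosedImmersion f] {L : P.Modules}
    (hL : PicF.IsInvertible L) (x : X) : ∃ U : X.Opens, x ∈ U ∧ ∃ σ : Γ(L, f ⁻¹ᵁ U), Gen (f ⁻¹ᵁ U) σ := by
  by_cases hx : x ∈ Set.range f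
  · obtain ⟨p, rfl⟩ := hx
    obtain ⟨V, σ, hpV, hσ⟩ := exists_gen_nhd hL p
    obtain ⟨O, hO, hOV⟩ := f.isClosedEmbedding.isInducing.isOpen_iff.1 V.2
    obtain rfl : f ⁻¹ᵁ (⟨O, hO⟩ : X.Opens) = V := Opens.ext hOV
    exact ⟨⟨O, hO⟩, hpV, σ, hσ⟩
  · let U : X.Opens := ⟨(Set.range f)ᶜ, f.isClosedEmbedding.isClosed_range.isOpen_compl⟩
    have he : f ⁻¹ᵁ U = ⊥ := le_bot_iff.1 fun p hp => hp ⟨p, rfl⟩
    exact ⟨U, hx, by rw [he]; exact exists_gen_bot⟩

include hIJ in
/-- Invertible modules on the two pieces with isomorphic restrictions to `V(I ⊔ J)` come from one on `X`. -/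
theorem exists_glue {LY : I.subscheme.Modules} (hLY : PicF.IsInvertible LY) {LZ : J.subscheme.Modules}
    (hLZ : PicF.IsInvertible LZ)
    (θ : (Scheme.Modules.pullback (iY I J)).obj LY ≅ (Scheme.Modules.pullback (iZ I J)).obj LZ) :
    ∃ M : X.Modules, PicF.IsInvertible M ∧ Nonempty ((Scheme.Modules.pullback I.subschemeι).obj M ≅ LY) ∧
      Nonempty ((Scheme.Modules.pullback J.subschemeι).obj M ≅ LZ) := by
  let ιY := I.subschemeι
  let ιZ := J.subschemeι
  let ιW := (I ⊔ J).subschemeι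
  let NZ := (Scheme.Modules.pullback (iZ I J)).obj LZ
  let NY := (Scheme.Modules.pullback (iY I J)).obj LY
  -- matched frames
  have hframe : ∀ x : X, ∃ (U : X.Opens) (σ : Γ(LY, ιY ⁻¹ᵁ U)) (ρ : Γ(LZ, ιZ ⁻¹ᵁ U)), x ∈ U ∧ Gen (ιY ⁻¹ᵁ U) σ ∧
      Gen (ιZ ⁻¹ᵁ U) ρ ∧
      θ.hom.app (ιW ⁻¹ᵁ U) (pullMap (iY I J) LY (leY I J U) σ) = pullMap (iZ I J) LZ (leZ I J U) ρ := by
    intro x
    obtain ⟨U₁, hx₁, σ, hσ⟩ := exists_gen_nhd_closed ιY hLY x
    obtain ⟨U₂, hx₂, ρ, hρ⟩ := exists_gen_nhd_closed ιZ hLZ x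
    let U := U₁ ⊓ U₂
    have hσU := hσ.res (ιY.preimage_mono (inf_le_left : U ≤ U₁))
    have hρU := hρ.res (ιZ.preimage_mono (inf_le_right : U ≤ U₂))
    have h1 := gen_of_modIso θ (CubeLib.gen_pullMap (iY I J) hLY hσU (leY I J U))
    have h2 := CubeLib.gen_pullMap (iZ I J) hLZ hρU (leZ I J U)
    obtain ⟨w, hw', hw⟩ := h1.exists_unit h2
    obtain ⟨V, hV, r, hxV, hr', hr⟩ := exists_unit_ext (I ⊔ J) x (⟨hx₁, hx₂⟩ : x ∈ U) w hw'
    refine ⟨V, LY.presheaf.map (homOfLE (ιY.preimage_mono hV)).op (LY.presheaf.map (homOfLE (ιY.preimage_mono (inf_le_left : U ≤ U₁))).op σ),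
      ιZ.app V r • LZ.presheaf.map (homOfLE (ιZ.preimage_mono hV)).op (LZ.presheaf.map (homOfLE (ιZ.preimage_mono (inf_le_right : U ≤ U₂))).op ρ),
      hxV, hσU.res _, (hρU.res _).smul (hr'.map _), ?_⟩
    rw [pullMap_smul, ← pullMap_res (iY I J) LY (leY I J U) (ιY.preimage_mono hV) (ιW.preimage_mono hV) (leY I J V),
      ← pullMap_res (iZ I J) LZ (leZ I J U) (ιZ.preimage_mono hV) (ιW.preimage_mono hV) (leZ I J V)]
    rw [show (iZ I J).appLE _ _ (leZ I J V) (ιZ.app V r) = _ from (toWZ_app I J V r).trans hr]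
    have hw2 := congrArg (NZ.presheaf.map (homOfLE (ιW.preimage_mono hV)).op) hw
    rw [NZ.map_smul] at hw2
    exact (ConcreteCategory.congr_hom
      (θ.hom.mapPresheaf.naturality (homOfLE (ιW.preimage_mono hV)).op) _).trans hw2.symm
  choose U σ ρ hxU hσ hρ hθ using hframe
  have hU : iSup U = ⊤ := eq_top_iff.2 fun x _ => Opens.mem_iSup.2 ⟨x, hxU x⟩
  choose gY hgY' hgY using fun x y =>
    ((hσ x).res (ιY.preimage_mono (inf_le_left : U x ⊓ U y ≤ U x))).exists_unit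
      ((hσ y).res (ιY.preimage_mono (inf_le_right : U x ⊓ U y ≤ U y)))
  choose gZ hgZ' hgZ using fun x y =>
    ((hρ x).res (ιZ.preimage_mono (inf_le_left : U x ⊓ U y ≤ U x))).exists_unit
      ((hρ y).res (ιZ.preimage_mono (inf_le_right : U x ⊓ U y ≤ U y)))
  have hagree : ∀ x y, toWY I J (U x ⊓ U y) (gY x y) = toWZ I J (U x ⊓ U y) (gZ x y) := by
    intro x y
    have key : ∀ (z : X) (h : U x ⊓ U y ≤ U z),
        θ.hom.app (ιW ⁻¹ᵁ (U x ⊓ U y)) (pullMap (iY I J) LY (leY I J _) (LY.presheaf.map (homOfLE (ιY.preimage_mono h)).op (σ z))) =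
          pullMap (iZ I J) LZ (leZ I J _) (LZ.presheaf.map (homOfLE (ιZ.preimage_mono h)).op (ρ z)) := by
      intro z h
      rw [← pullMap_res (iY I J) LY (leY I J (U z)) (ιY.preimage_mono h) (ιW.preimage_mono h) (leY I J _),
        ← pullMap_res (iZ I J) LZ (leZ I J (U z)) (ιZ.preimage_mono h) (ιW.preimage_mono h) (leZ I J _), ← hθ z]
      exact ConcreteCategory.congr_hom (θ.hom.mapPresheaf.naturality (homOfLE (ιW.preimage_mono h)).op) _
    have hy := key y inf_le_right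
    have hx := key x inf_le_left
    rw [← hgY x y, ← hgZ x y, pullMap_smul, pullMap_smul, Scheme.Modules.Hom.app_smul, hy] at hx
    refine gen_inj' ?_ hx
    exact CubeLib.gen_pullMap (iZ I J) hLZ ((hρ y).res _) (leZ I J _)
  choose η hη' hηY hηZ using fun x y => exists_unit_lift hIJ (U x ⊓ U y) (hgY' x y) (hgZ' x y) (hagree x y)
  let η' : ∀ x y, Γ(X, U x ⊓ U y)ˣ := fun x y => (hη' x y).unit
  have hcocY : ∀ {P : Scheme.{u}} (f : P ⟶ X) (L : P.Modules) (e : ∀ z, Γ(L, f ⁻¹ᵁ U z)) (_ : ∀ z, Gen (f ⁻¹ᵁ U z) (e z))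
      (g : ∀ x y, Γ(P, f ⁻¹ᵁ (U x ⊓ U y)))
      (_ : ∀ x y, g x y • L.presheaf.map (homOfLE (f.preimage_mono inf_le_right)).op (e y) =
        L.presheaf.map (homOfLE (f.preimage_mono inf_le_left)).op (e x)) (x y z : X),
      P.presheaf.map (homOfLE (f.preimage_mono (inf_le_inf_right (U z) inf_le_left : U x ⊓ U y ⊓ U z ≤ U x ⊓ U z))).op (g x z) =
      P.presheaf.map (homOfLE (f.preimage_mono (inf_le_left : U x ⊓ U y ⊓ U z ≤ U x ⊓ U y))).op (g x y) *
        P.presheaf.map (homOfLE (f.preimage_mono (inf_le_inf_right (U z) inf_le_right : U x ⊓ U y ⊓ U z ≤ U y ⊓ U z))).op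
          (g y z) := by
    intro P f L e he g hg x y z
    apply gen_inj' ((he z).res (f.preimage_mono (inf_le_right : U x ⊓ U y ⊓ U z ≤ U z)))
    have e1 := congrArg (L.presheaf.map (homOfLE (f.preimage_mono
      (inf_le_inf_right (U z) inf_le_left : U x ⊓ U y ⊓ U z ≤ U x ⊓ U z))).op) (hg x z)
    have e2 := congrArg (L.presheaf.map (homOfLE (f.preimage_mono
      (inf_le_left : U x ⊓ U y ⊓ U z ≤ U x ⊓ U y))).op) (hg x y)
    have e3 := congrArg (L.presheaf.map (homOfLE (f.preimage_mono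
      (inf_le_inf_right (U z) inf_le_right : U x ⊓ U y ⊓ U z ≤ U y ⊓ U z))).op) (hg y z)
    rw [L.map_smul, ParaFLib.res_res, ParaFLib.res_res] at e1 e2 e3
    rw [e1, mul_smul, e3, e2]
  have hcoc : IsCocycle U η' := fun x y z => by
    refine app_injective hIJ _ ?_ ?_
    · simp only [η', IsUnit.unit_spec, map_mul]
      rw [app_res, app_res, app_res, hηY, hηY, hηY]
      exact hcocY ιY LY σ hσ gY hgY x y z
    · simp only [η', IsUnit.unit_spec, map_mul]
      rw [app_res, app_res, app_res, hηZ, hηZ, hηZ]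
      exact hcocY ιZ LZ ρ hρ gZ hgZ x y z
  obtain ⟨M, s, hM, hs, hst⟩ := exists_invertible_of_cocycle U η' hU hcoc
  refine ⟨M, hM, ?_, ?_⟩
  · refine nonempty_iso_of_bases (U := fun x => ιY ⁻¹ᵁ U x) (by rw [← Scheme.Hom.preimage_iSup, hU]; rfl)
      (fun x => AmpleEmb.gen_pullMap ιY hM (hs x)) hσ gY (fun x y => ?_) fun x y => (hgY x y).symm
    rw [← hηY x y]
    exact pullMap_trans ιY M inf_le_left inf_le_right (hst x y)
  · refine nonempty_iso_of_bases (U := fun x => ιZ ⁻¹ᵁ U x) (by rw [← Scheme.Hom.preimage_iSup, hU]; rfl)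
      (fun x => AmpleEmb.gen_pullMap ιZ hM (hs x)) hρ gZ (fun x y => ?_) fun x y => (hgZ x y).symm
    rw [← hηZ x y]
    exact pullMap_trans ιZ M inf_le_left inf_le_right (hst x y)

end Groth.Agent.PicUnionLib
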