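import Mathlib.AlgebraicGeometry.IdealSheaf.Subscheme
import Mathlib.AlgebraicGeometry.Morphisms.ClosedImmersion

/-!
# Functions on a union of two closed subschemes

If `I ⊓ J = ⊥`, a function on an open of `X` is a pair of functions on the traces on `V(I)` and `V(J)` which
agree on `V(I ⊔ J)`.
-/

set_option autoImplicit false
set_option backward.isDefEq.respectTransparency false
set_option linter.style.haveILetI false

universe u

open CategoryTheory AlgebraicGeometry TopologicalSpace Opposite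

noncomputable section

namespace Groth.Agent.PicUnionLib

variable {X : Scheme.{u}} (I J : X.IdealSheafData)

/-- The inclusion of `V(I ⊔ J)` in `V(I)`. -/
abbrev iY : (I ⊔ J).subscheme ⟶ I.subscheme :=
  Scheme.IdealSheafData.inclusion (le_sup_left : I ≤ I ⊔ J)

/-- The inclusion of `V(I ⊔ J)` in `V(J)`. -/
abbrev iZ : (I ⊔ J).subscheme ⟶ J.subscheme :=
  Scheme.IdealSheafData.inclusion (le_sup_right : J ≤ I ⊔ J)

theorem iY_ι : iY I J ≫ I.subschemeι = (I ⊔ J).subschemeι := Scheme.IdealSheafData.inclusion_subschemeι _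

theorem iZ_ι : iZ I J ≫ J.subschemeι = (I ⊔ J).subschemeι := Scheme.IdealSheafData.inclusion_subschemeι _

theorem leY (U : X.Opens) : (I ⊔ J).subschemeι ⁻¹ᵁ U ≤ iY I J ⁻¹ᵁ (I.subschemeι ⁻¹ᵁ U) :=
  (Scheme.Hom.comp_preimage _ _ U).symm.trans (congrArg (fun f => f ⁻¹ᵁ U) (iY_ι I J)) |>.ge

theorem leZ (U : X.Opens) : (I ⊔ J).subschemeι ⁻¹ᵁ U ≤ iZ I J ⁻¹ᵁ (J.subschemeι ⁻¹ᵁ U) :=
  (Scheme.Hom.comp_preimage _ _ U).symm.trans (congrArg (fun f => f ⁻¹ᵁ U) (iZ_ι I J)) |>.ge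

/-- Functions on a trace of `U` on `V(I)`, seen on the trace on `V(I ⊔ J)`. -/
def toWY (U : X.Opens) : Γ(I.subscheme, I.subschemeι ⁻¹ᵁ U) →+* Γ((I ⊔ J).subscheme, (I ⊔ J).subschemeι ⁻¹ᵁ U) :=
  ((iY I J).appLE _ _ (leY I J U)).hom

/-- Functions on a trace of `U` on `V(J)`, seen on the trace on `V(I ⊔ J)`. -/
def toWZ (U : X.Opens) : Γ(J.subscheme, J.subschemeι ⁻¹ᵁ U) →+* Γ((I ⊔ J).subscheme, (I ⊔ J).subschemeι ⁻¹ᵁ U) :=
  ((iZ I J).appLE _ _ (leZ I J U)).hom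

theorem appLE_app_of_comp {P Q R : Scheme.{u}} (f : P ⟶ Q) (g : Q ⟶ R) {h : P ⟶ R} (w : f ≫ g = h) (U : R.Opens)
    (e : h ⁻¹ᵁ U ≤ f ⁻¹ᵁ (g ⁻¹ᵁ U)) (r : Γ(R, U)) :
    f.appLE (g ⁻¹ᵁ U) (h ⁻¹ᵁ U) e (g.app U r) = h.app U r := by
  subst w
  rw [← ConcreteCategory.comp_apply, ← Scheme.Hom.comp_appLE, ← Scheme.Hom.app_eq_appLE]

theorem toWY_app (U : X.Opens) (r : Γ(X, U)) :
    toWY I J U (I.subschemeι.app U r) = (I ⊔ J).subschemeι.app U r :=
  appLE_app_of_comp _ _ (iY_ι I J) U _ r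

theorem toWZ_app (U : X.Opens) (r : Γ(X, U)) :
    toWZ I J U (J.subschemeι.app U r) = (I ⊔ J).subschemeι.app U r :=
  appLE_app_of_comp _ _ (iZ_ι I J) U _ r

theorem app_res {P Q : Scheme.{u}} (f : P ⟶ Q) {U V : Q.Opens} (h : V ≤ U) (r : Γ(Q, U)) :
    f.app V (Q.presheaf.map (homOfLE h).op r) = P.presheaf.map (homOfLE (f.preimage_mono h)).op (f.app U r) :=
  ConcreteCategory.congr_hom (f.naturality (homOfLE h).op) r

theorem toWY_res {U V : X.Opens} (h : V ≤ U) (a : Γ(I.subscheme, I.subschemeι ⁻¹ᵁ U)) :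
    toWY I J V (I.subscheme.presheaf.map (homOfLE (I.subschemeι.preimage_mono h)).op a) =
      (I ⊔ J).subscheme.presheaf.map (homOfLE ((I ⊔ J).subschemeι.preimage_mono h)).op (toWY I J U a) := by
  simp only [toWY, ← ConcreteCategory.comp_apply, Scheme.Hom.map_appLE, Scheme.Hom.appLE_map]

theorem toWZ_res {U V : X.Opens} (h : V ≤ U) (a : Γ(J.subscheme, J.subschemeι ⁻¹ᵁ U)) :
    toWZ I J V (J.subscheme.presheaf.map (homOfLE (J.subschemeι.preimage_mono h)).op a) =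
      (I ⊔ J).subscheme.presheaf.map (homOfLE ((I ⊔ J).subschemeι.preimage_mono h)).op (toWZ I J U a) := by
  simp only [toWZ, ← ConcreteCategory.comp_apply, Scheme.Hom.map_appLE, Scheme.Hom.appLE_map]

/-- An affine cover of an open. -/
theorem exists_affines (U : X.Opens) :
    ∃ (ι : Type u) (V : ι → X.Opens), (∀ i, IsAffineOpen (V i)) ∧ (∀ i, V i ≤ U) ∧ U ≤ iSup V := by
  refine ⟨{ V : X.affineOpens // (V : X.Opens) ≤ U }, fun V => V.1.1, fun V => V.1.2, fun V => V.2, fun x hx => ?_⟩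
  obtain ⟨_, ⟨V, hV, rfl⟩, hxV, hVU⟩ :=
    X.isBasis_affineOpens.exists_subset_of_mem_open (show x ∈ (U : Set X) from hx) U.2
  exact Opens.mem_iSup.2 ⟨⟨⟨V, hV⟩, hVU⟩, hxV⟩

variable {I J}

theorem app_injective_affine (hIJ : I ⊓ J = ⊥) (U : X.affineOpens) {r : Γ(X, U.1)}
    (hY : I.subschemeι.app U.1 r = 0) (hZ : J.subschemeι.app U.1 r = 0) : r = 0 := by
  have h : r ∈ (I ⊓ J).ideal U := by
    rw [Scheme.IdealSheafData.ideal_inf]
    refine ⟨?_, ?_⟩
    · rw [SetLike.mem_coe, ← I.ker_subschemeι_app U]; exact hY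
    · rw [SetLike.mem_coe, ← J.ker_subschemeι_app U]; exact hZ
  rw [hIJ, Scheme.IdealSheafData.ideal_bot] at h
  exact h

theorem app_injective (hIJ : I ⊓ J = ⊥) (U : X.Opens) {r r' : Γ(X, U)}
    (hY : I.subschemeι.app U r = I.subschemeι.app U r') (hZ : J.subschemeι.app U r = J.subschemeι.app U r') :
    r = r' := by
  obtain ⟨ι, V, hVa, hVU, hcov⟩ := exists_affines U
  refine X.sheaf.eq_of_locally_eq' V U (fun i => homOfLE (hVU i)) hcov r r' fun i => ?_
  refine sub_eq_zero.1 (app_injective_affine hIJ ⟨V i, hVa i⟩ ?_ ?_)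
  · show I.subschemeι.app (V i) (X.presheaf.map (homOfLE (hVU i)).op r - X.presheaf.map (homOfLE (hVU i)).op r') = 0
    rw [map_sub, app_res, app_res, hY, sub_self]
  · show J.subschemeι.app (V i) (X.presheaf.map (homOfLE (hVU i)).op r - X.presheaf.map (homOfLE (hVU i)).op r') = 0
    rw [map_sub, app_res, app_res, hZ, sub_self]

theorem exists_lift_affine (U : X.affineOpens) (a : Γ(I.subscheme, I.subschemeι ⁻¹ᵁ U.1))
    (b : Γ(J.subscheme, J.subschemeι ⁻¹ᵁ U.1)) (h : toWY I J U.1 a = toWZ I J U.1 b) :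
    ∃ r : Γ(X, U.1), I.subschemeι.app U.1 r = a ∧ J.subschemeι.app U.1 r = b := by
  obtain ⟨r₁, rfl⟩ := I.subschemeι_app_surjective U a
  obtain ⟨r₂, rfl⟩ := J.subschemeι_app_surjective U b
  rw [toWY_app, toWZ_app] at h
  have h' : r₁ - r₂ ∈ (I ⊔ J).ideal U := by
    rw [← (I ⊔ J).ker_subschemeι_app U, RingHom.mem_ker, map_sub]
    exact sub_eq_zero.2 h
  rw [Scheme.IdealSheafData.ideal_sup, Pi.sup_apply, Submodule.mem_sup] at h'
  obtain ⟨i, hi, j, hj, hij⟩ := h'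
  rw [← I.ker_subschemeι_app U, RingHom.mem_ker] at hi
  rw [← J.ker_subschemeι_app U, RingHom.mem_ker] at hj
  refine ⟨r₁ - i, ?_, ?_⟩
  · show (I.subschemeι.app U.1).hom (r₁ - i) = _
    rw [map_sub, hi, sub_zero]
  · show (J.subschemeι.app U.1).hom (r₁ - i) = _
    have e : r₁ - i = r₂ + j := by linear_combination -hij
    rw [e, map_add, hj, add_zero]

theorem exists_lift (hIJ : I ⊓ J = ⊥) (U : X.Opens) (a : Γ(I.subscheme, I.subschemeι ⁻¹ᵁ U))
    (b : Γ(J.subscheme, J.subschemeι ⁻¹ᵁ U)) (h : toWY I J U a = toWZ I J U b) :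
    ∃ r : Γ(X, U), I.subschemeι.app U r = a ∧ J.subschemeι.app U r = b := by
  obtain ⟨ι, V, hVa, hVU, hcov⟩ := exists_affines U
  choose r hrY hrZ using fun i => exists_lift_affine (I := I) (J := J) ⟨V i, hVa i⟩
    (I.subscheme.presheaf.map (homOfLE (I.subschemeι.preimage_mono (hVU i))).op a)
    (J.subscheme.presheaf.map (homOfLE (J.subschemeι.preimage_mono (hVU i))).op b)
    (by show toWY I J (V i) _ = toWZ I J (V i) _
        rw [toWY_res I J (hVU i), toWZ_res I J (hVU i), h])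
  obtain ⟨s, hs, -⟩ := X.sheaf.existsUnique_gluing' V U (fun i => homOfLE (hVU i)) hcov r fun i j => by
    show X.presheaf.map (homOfLE inf_le_left).op (r i) = X.presheaf.map (homOfLE inf_le_right).op (r j)
    refine app_injective hIJ _ ?_ ?_
    · rw [app_res, app_res, hrY, hrY]
      simp only [← ConcreteCategory.comp_apply, ← Functor.map_comp]
      rfl
    · rw [app_res, app_res, hrZ, hrZ]
      simp only [← ConcreteCategory.comp_apply, ← Functor.map_comp]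
      rfl
  refine ⟨s, ?_, ?_⟩
  · refine I.subscheme.sheaf.eq_of_locally_eq' (fun i => I.subschemeι ⁻¹ᵁ V i) _
      (fun i => homOfLE (I.subschemeι.preimage_mono (hVU i))) ?_ _ _ fun i => ?_
    · rw [← Scheme.Hom.preimage_iSup]; exact I.subschemeι.preimage_mono hcov
    · exact ((app_res I.subschemeι (hVU i) s).symm.trans (congrArg _ (hs i))).trans (hrY i)
  · refine J.subscheme.sheaf.eq_of_locally_eq' (fun i => J.subschemeι ⁻¹ᵁ V i) _
      (fun i => homOfLE (J.subschemeι.preimage_mono (hVU i))) ?_ _ _ fun i => ?_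
    · rw [← Scheme.Hom.preimage_iSup]; exact J.subschemeι.preimage_mono hcov
    · exact ((app_res J.subschemeι (hVU i) s).symm.trans (congrArg _ (hs i))).trans (hrZ i)

/-- A pair of units agreeing on `V(I ⊔ J)` comes from a unit. -/
theorem exists_unit_lift (hIJ : I ⊓ J = ⊥) (U : X.Opens) {a : Γ(I.subscheme, I.subschemeι ⁻¹ᵁ U)}
    {b : Γ(J.subscheme, J.subschemeι ⁻¹ᵁ U)} (ha : IsUnit a) (hb : IsUnit b)
    (h : toWY I J U a = toWZ I J U b) :
    ∃ r : Γ(X, U), IsUnit r ∧ I.subschemeι.app U r = a ∧ J.subschemeι.app U r = b := by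
  obtain ⟨a, rfl⟩ := ha
  obtain ⟨b, rfl⟩ := hb
  obtain ⟨r, hrY, hrZ⟩ := exists_lift hIJ U _ _ h
  obtain ⟨q, hqY, hqZ⟩ := exists_lift hIJ U ((a⁻¹ : _ˣ) : Γ(I.subscheme, I.subschemeι ⁻¹ᵁ U))
    ((b⁻¹ : _ˣ) : Γ(J.subscheme, J.subschemeι ⁻¹ᵁ U)) (by
      have h' : Units.map (toWY I J U).toMonoidHom a = Units.map (toWZ I J U).toMonoidHom b := Units.ext h
      have h'' := congrArg Units.val (congrArg (fun v => v⁻¹) h')
      rw [← map_inv, ← map_inv] at h''
      exact h'')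
  refine ⟨r, IsUnit.of_mul_eq_one q (app_injective hIJ U ?_ ?_), hrY, hrZ⟩
  · rw [map_mul, hrY, hqY, map_one, Units.mul_inv]
  · rw [map_mul, hrZ, hqZ, map_one, Units.mul_inv]

/-- Near every point, a unit on `V(K)` extends to a unit. -/
theorem exists_unit_ext (K : X.IdealSheafData) {U : X.Opens} (x : X) (hx : x ∈ U)
    (w : Γ(K.subscheme, K.subschemeι ⁻¹ᵁ U)) (hw : IsUnit w) :
    ∃ (V : X.Opens) (hV : V ≤ U) (r : Γ(X, V)), x ∈ V ∧ IsUnit r ∧
      K.subschemeι.app V r = K.subscheme.presheaf.map (homOfLE (K.subschemeι.preimage_mono hV)).op w := by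
  by_cases hxK : x ∈ Set.range K.subschemeι
  · obtain ⟨p, rfl⟩ := hxK
    obtain ⟨_, ⟨V, hV, rfl⟩, hxV, hVU⟩ :=
      X.isBasis_affineOpens.exists_subset_of_mem_open (show K.subschemeι p ∈ (U : Set X) from hx) U.2
    obtain ⟨r, hr⟩ := K.subschemeι_app_surjective ⟨V, hV⟩
      (K.subscheme.presheaf.map (homOfLE (K.subschemeι.preimage_mono hVU)).op w)
    have hmem : K.subschemeι p ∈ X.basicOpen r := by
      have h1 : p ∈ K.subscheme.basicOpen (K.subschemeι.app V r) := by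
        rw [hr, Scheme.basicOpen_of_isUnit _ (hw.map _)]
        exact hxV
      rw [← Scheme.preimage_basicOpen] at h1
      exact h1
    refine ⟨X.basicOpen r, (X.basicOpen_le r).trans hVU,
      X.presheaf.map (homOfLE (X.basicOpen_le r)).op r, hmem,
      RingedSpace.isUnit_res_basicOpen X.toRingedSpace r, ?_⟩
    rw [app_res, hr, ← ConcreteCategory.comp_apply, ← Functor.map_comp]
    rfl
  · let V : X.Opens := U ⊓ ⟨(Set.range K.subschemeι)ᶜ, K.subschemeι.isClosedEmbedding.isClosed_range.isOpen_compl⟩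
    have he : K.subschemeι ⁻¹ᵁ V = ⊥ := le_bot_iff.1 fun p hp => hp.2 ⟨p, rfl⟩
    haveI : Subsingleton Γ(K.subscheme, K.subschemeι ⁻¹ᵁ V) := by
      rw [he]; exact CommRingCat.subsingleton_of_isTerminal K.subscheme.sheaf.isTerminalOfEmpty
    exact ⟨V, inf_le_left, 1, ⟨hx, hxK⟩, isUnit_one, Subsingleton.elim _ _⟩

end Groth.Agent.PicUnionLib
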